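import Groth.Agent.CycLib.SpecPt
import Groth.Prelude.Def_AlgEqCyc
import Groth.Agent.ProjProper.Basic
import Mathlib.AlgebraicGeometry.FunctionField
import Mathlib.AlgebraicGeometry.AlgClosed.Basic

/-!
# The family of the points of a curve in an ambient scheme
-/

set_option autoImplicit false
universe u
open AlgebraicGeometry CategoryTheory CategoryTheory.Limits

namespace Groth.Agent.AlgEqCurve47

/-- The multiplicity of a graph of an integral scheme at a point of a slice is one. -/
theorem fibreMult_diag {P C : Scheme.{u}} [IsIntegral C] (Δ : C ⟶ P) [IsClosedImmersion Δ] (g : P ⟶ C)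
    (hΔ : Δ ≫ g = 𝟙 C) (c : C) (h : Δ (genericPoint C) ⤳ Δ c) :
    AlgEqCyc.fibreMult g (Δ c) (Δ (genericPoint C)) h = 1 := by
  have hηc : genericPoint C ⤳ c := genericPoint_specializes c
  have hinj : Function.Injective (Cyc.specMap c (genericPoint C) hηc) :=
    (C.residue (genericPoint C)).hom.injective.comp
      (FaithfulSMul.algebraMap_injective (C.presheaf.stalk c) C.functionField)
  have hK : RingHom.ker (Cyc.specMap (Δ c) (Δ (genericPoint C)) h) = RingHom.ker (Δ.stalkMap c).hom := by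
    rw [← Groth.Agent.CycLib.comap_ker_specMap Δ hηc, (RingHom.injective_iff_ker_eq_bot _).1 hinj,
      ← RingHom.ker_eq_comap_bot]
  let I : Ideal (P.presheaf.stalk (Δ c)) :=
    (IsLocalRing.maximalIdeal (C.presheaf.stalk (g (Δ c)))).map (g.stalkMap (Δ c)).hom
  have hsurj : Function.Surjective (Δ.stalkMap c).hom := Δ.stalkMap_surjective c
  have hI : I.map (Δ.stalkMap c).hom = IsLocalRing.maximalIdeal (C.presheaf.stalk c) := by
    have e1 : (g.stalkMap (Δ c) ≫ Δ.stalkMap c) = (Δ ≫ g).stalkMap c :=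
      (Scheme.Hom.stalkMap_comp Δ g c).symm
    haveI : IsIso (Δ ≫ g) := by rw [hΔ]; infer_instance
    haveI : IsIso ((Δ ≫ g).stalkMap c) := inferInstance
    rw [Ideal.map_map, ← CommRingCat.hom_comp, e1]
    exact IsLocalRing.map_ringEquiv_maximalIdeal (asIso ((Δ ≫ g).stalkMap c)).commRingCatIsoToRingEquiv
  have hsup : RingHom.ker (Cyc.specMap (Δ c) (Δ (genericPoint C)) h) ⊔ I =
      IsLocalRing.maximalIdeal (P.presheaf.stalk (Δ c)) := by
    haveI : IsLocalHom (Δ.stalkMap c).hom := inferInstanceAs (IsLocalHom (Δ.stalkMap c).hom)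
    rw [hK, sup_comm, RingHom.ker_eq_comap_bot, ← Ideal.comap_map_of_surjective _ hsurj I, hI]
    exact ((IsLocalRing.local_hom_TFAE (Δ.stalkMap c).hom).out 0 4 rfl rfl).1 inferInstance
  let mk₁ := Ideal.Quotient.mk (RingHom.ker (Cyc.specMap (Δ c) (Δ (genericPoint C)) h))
  let J := (IsLocalRing.maximalIdeal (C.presheaf.stalk (g (Δ c)))).map (mk₁.comp (g.stalkMap (Δ c)).hom)
  have hJc : J.comap mk₁ = IsLocalRing.maximalIdeal (P.presheaf.stalk (Δ c)) := by
    simp only [J, mk₁, ← Ideal.map_map]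
    rw [Ideal.comap_map_of_surjective _ Ideal.Quotient.mk_surjective, ← RingHom.ker_eq_comap_bot,
      Ideal.mk_ker, sup_comm]
    exact hsup
  let π : P.presheaf.stalk (Δ c) →ₗ[P.presheaf.stalk (Δ c)]
      (Cyc.LocQuot (Δ c) (Δ (genericPoint C)) h ⧸ J) :=
    (J.mkQ.restrictScalars (P.presheaf.stalk (Δ c))).comp (Submodule.mkQ _)
  have hπker : LinearMap.ker π = IsLocalRing.maximalIdeal (P.presheaf.stalk (Δ c)) := by
    ext a
    rw [LinearMap.mem_ker, ← hJc, Ideal.mem_comap]
    exact Submodule.Quotient.mk_eq_zero J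
  have hsimple : IsSimpleModule (P.presheaf.stalk (Δ c))
      (Cyc.LocQuot (Δ c) (Δ (genericPoint C)) h ⧸ J) := by
    have e := LinearMap.quotKerEquivOfSurjective π
      ((Submodule.mkQ_surjective J).comp (Submodule.mkQ_surjective _))
    haveI : IsSimpleModule (P.presheaf.stalk (Δ c)) (P.presheaf.stalk (Δ c) ⧸ LinearMap.ker π) := by
      rw [hπker]
      exact isSimpleModule_iff_isCoatom.2 (IsLocalRing.maximalIdeal.isMaximal _).out
    exact IsSimpleModule.congr e.symm
  unfold AlgEqCyc.fibreMult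
  rw [Module.length_eq_one_iff.2 hsimple]
  rfl

/-- A rational point lying on a closed subscheme comes from a rational point of that subscheme. -/
theorem exists_lift {k : Type u} [Field k] {X C : Scheme.{u}} {p : X ⟶ Spec (CommRingCat.of k)}
    {q : C ⟶ Spec (CommRingCat.of k)} (ι : C ⟶ X) [IsClosedImmersion ι] (hι : ι ≫ p = q)
    (Q : Spec (CommRingCat.of k) ⟶ X) (hQ : Q ≫ p = 𝟙 _)
    (hmem : Q (IsLocalRing.closedPoint k) ∈ Set.range ι) :
    ∃ t : Spec (CommRingCat.of k) ⟶ C, t ≫ q = 𝟙 _ ∧ t ≫ ι = Q := by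
  obtain ⟨c, hc⟩ := hmem
  obtain ⟨⟨x, a⟩, hxa⟩ := (Scheme.SpecToEquivOfField k X).symm.surjective Q
  have hQa : Q = Spec.map a ≫ X.fromSpecResidueField x := hxa.symm
  obtain rfl : ι c = x := by rw [hc, hQa]; simp
  haveI : IsIso (ι.residueFieldMap c) := by
    have hs : Function.Surjective (ι.residueFieldMap c).hom := fun b => by
      obtain ⟨b', rfl⟩ := C.residue_surjective c b
      obtain ⟨b'', rfl⟩ := ι.stalkMap_surjective c b'
      exact ⟨X.residue (ι c) b'', congr($(Scheme.residue_residueFieldMap ι c) b'')⟩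
    haveI : IsIso (ι.residueFieldMap c : _ ⟶ _) :=
      (ConcreteCategory.isIso_iff_bijective _).2 ⟨(ι.residueFieldMap c).hom.injective, hs⟩
    infer_instance
  refine ⟨Spec.map (inv (ι.residueFieldMap c) ≫ a) ≫ C.fromSpecResidueField c, ?_, ?_⟩
  all_goals
    have e : (Spec.map (inv (ι.residueFieldMap c) ≫ a) ≫ C.fromSpecResidueField c) ≫ ι = Q := by
      rw [Category.assoc, ← Scheme.Hom.SpecMap_residueFieldMap_fromSpecResidueField, ← Spec.map_comp_assoc,
        IsIso.hom_inv_id_assoc, hQa]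
  · rw [← hι, ← Category.assoc, e, hQ]
  · exact e

open Classical in
/-- The fibres of the graph of `ι : C ⟶ X` are the points. -/
theorem fibreFun_graph {X C : Scheme.{u}} [IsIntegral C] {k : Type u} [Field k]
    (p : X ⟶ Spec (CommRingCat.of k)) (q : C ⟶ Spec (CommRingCat.of k)) [IsSeparated q]
    (ι : C ⟶ X) [IsClosedImmersion ι] (hι : ι ≫ p = q)
    (t : Spec (CommRingCat.of k) ⟶ C) (ht : t ≫ q = 𝟙 _) (x : X) :
    AlgEqCyc.fibreFun p q
      (Function.locallyFinsuppWithin.single
        (pullback.lift ι (𝟙 C) (by rw [hι, Category.id_comp]) (genericPoint C)) (1 : ℤ)) t ht x =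
      if x = ι (t (IsLocalRing.closedPoint k)) then 1 else 0 := by
  let Δ : C ⟶ pullback p q := pullback.lift ι (𝟙 C) (by rw [hι, Category.id_comp])
  have hΔf : Δ ≫ pullback.fst p q = ι := pullback.lift_fst _ _ _
  have hΔg : Δ ≫ pullback.snd p q = 𝟙 C := pullback.lift_snd _ _ _
  haveI : IsClosedImmersion Δ := by
    haveI : IsClosedImmersion (Δ ≫ pullback.fst p q) := by rw [hΔf]; infer_instance
    exact IsClosedImmersion.of_comp Δ (pullback.fst p q)
  let c := t (IsLocalRing.closedPoint k)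
  have hW : ∀ w, (Function.locallyFinsuppWithin.single (Δ (genericPoint C)) (1 : ℤ)) w ≠ 0 →
      w = Δ (genericPoint C) := fun w hw => by
    by_contra hne
    exact hw (Pi.single_eq_of_ne hne _)
  have hsnd : pullback.snd p q (AlgEqCyc.slice p q t ht x) = c := by
    rw [← Scheme.Hom.comp_apply, AlgEqCyc.slice]
    erw [pullback.lift_snd]
    exact congrArg t (Subsingleton.elim _ _)
  have hfst : pullback.fst p q (AlgEqCyc.slice p q t ht x) = x := by
    rw [← Scheme.Hom.comp_apply, AlgEqCyc.slice]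
    erw [pullback.lift_fst]
    rfl
  have htc : t ≫ ι ≫ AlgEqCyc.slice p q t ht = t ≫ Δ := by
    apply pullback.hom_ext
    · simp only [AlgEqCyc.slice, Δ, Category.assoc, pullback.lift_fst, Category.comp_id]
    · simp only [AlgEqCyc.slice, Δ, Category.assoc, pullback.lift_snd, Category.comp_id]
      rw [← Category.assoc ι, hι, ← Category.assoc, ht, Category.id_comp]
  rw [AlgEqCyc.fibreFun]
  split_ifs with hx
  · have hz : AlgEqCyc.slice p q t ht x = Δ c := by
      rw [hx, ← Scheme.Hom.comp_apply, ← Scheme.Hom.comp_apply, htc, Scheme.Hom.comp_apply]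
    rw [finsum_eq_single _ ⟨Δ (genericPoint C), by simp [Δ],
      hz ▸ (genericPoint_specializes c).map Δ.continuous⟩ (fun b hb => absurd (Subtype.ext (hW b.1 b.2.1)) hb)]
    simp only [hz]
    rw [fibreMult_diag Δ _ hΔg c]
    simp [Δ]
  · haveI : IsEmpty {w : ↥(pullback p q) //
        (Function.locallyFinsuppWithin.single (Δ (genericPoint C)) (1 : ℤ)) w ≠ 0 ∧
          w ⤳ AlgEqCyc.slice p q t ht x} := by
      refine ⟨fun ⟨w, hw, hwz⟩ => hx ?_⟩
      rw [hW w hw] at hwz
      obtain ⟨d, hd⟩ := hwz.mem_closed Δ.isClosedEmbedding.isClosed_range ⟨_, rfl⟩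
      have h1 : d = c := by
        rw [← hsnd, ← hd, ← Scheme.Hom.comp_apply, hΔg]; rfl
      have h2 : ι d = x := by
        rw [← hfst, ← hd, ← Scheme.Hom.comp_apply, hΔf]
      rw [← h2, h1]
    exact finsum_of_isEmpty _

/-- Two rational points of a smooth projective integral curve in `X` are algebraically equivalent on `X`. -/
theorem isAlgEquiv_of_curve {X C : Scheme.{u}} [DecidableEq ↥X] {k : Type u} [Field k]
    (p : X ⟶ Spec (CommRingCat.of k)) (q : C ⟶ Spec (CommRingCat.of k)) (hs : Smooth q)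
    (hp : Neron.IsProjectiveOver k (Over.mk q)) (hi : IsIntegral C) (hd : topologicalKrullDim ↥C = 1)
    (ι : C ⟶ X) [IsClosedImmersion ι] (hι : ι ≫ p = q)
    (t₁ t₂ : Spec (CommRingCat.of k) ⟶ C) (h₁ : t₁ ≫ q = 𝟙 _) (h₂ : t₂ ≫ q = 𝟙 _) :
    AlgEqCyc.IsAlgEquiv p
      (Function.locallyFinsuppWithin.single (ι (t₁ (IsLocalRing.closedPoint k))) (1 : ℤ))
      (Function.locallyFinsuppWithin.single (ι (t₂ (IsLocalRing.closedPoint k))) (1 : ℤ)) := by
  classical
  haveI : IsProper q := Groth.Agent.ProjProper.Basic.isProper_of_isProjectiveOver k (Over.mk q) hp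
  have key : AlgEqCyc.IsElemAlgTriv p
      (Function.locallyFinsuppWithin.single (ι (t₁ (IsLocalRing.closedPoint k))) (1 : ℤ) -
        Function.locallyFinsuppWithin.single (ι (t₂ (IsLocalRing.closedPoint k))) (1 : ℤ)) := by
    refine ⟨C, q, hs, hp, hi, hd,
      Function.locallyFinsuppWithin.single
        (pullback.lift ι (𝟙 C) (by rw [hι, Category.id_comp]) (genericPoint C)) (1 : ℤ),
      fun w hw => ?_, t₁, t₂, h₁, h₂, fun x => ?_⟩
    · have : w = pullback.lift ι (𝟙 C) (by rw [hι, Category.id_comp]) (genericPoint C) := by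
        by_contra hne
        exact hw (Pi.single_eq_of_ne hne _)
      subst this
      rw [← Scheme.Hom.comp_apply, pullback.lift_snd]
      exact genericPoint_spec C
    · rw [fibreFun_graph p q ι hι t₁ h₁ x, fibreFun_graph p q ι hι t₂ h₂ x]
      show (Pi.single (ι (t₁ (IsLocalRing.closedPoint k))) (1 : ℤ) : X → ℤ) x -
        (Pi.single (ι (t₂ (IsLocalRing.closedPoint k))) (1 : ℤ) : X → ℤ) x = _
      simp only [Pi.single_apply]
      split_ifs <;> rfl
  exact AddSubgroup.subset_closure key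

end Groth.Agent.AlgEqCurve47
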